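import Groth.Agent.LimMore.Smooth
import Groth.Agent.SyntLib.Mor
import Groth.Agent.SyntLib.Comp
import Groth.Agent.SyntLib.Koszul
import Groth.Agent.S9848
import Groth.Agent.S9169

/-!
Syntomic morphisms descend along cofiltered limits.
-/

set_option autoImplicit false
set_option linter.style.haveILetI false
universe u
open CategoryTheory CategoryTheory.Limits AlgebraicGeometry

namespace Groth.Agent.SyntLimit

open LimDesc LimMore SyntLib

theorem synMor_of_smooth {X Y : Scheme.{u}} (f : X ⟶ Y) [Smooth f] : SynMor f := by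
  rw [SyntLib.SynMor, affineLocally_iff_affineOpens_le]
  intro V U e
  exact syn_of_smooth _ (f.smooth_appLE V.2 U.2 e)

theorem synMor_of_imm {X Y : Scheme.{u}} (f : X ⟶ Y) (h : IsOpenImmersion f) : SynMor f :=
  synMor_of_smooth f

theorem synMor_comp_smooth {X Y Z : Scheme.{u}} (m : X ⟶ Y) [Smooth m] {f : Y ⟶ Z} (hf : SynMor f) :
    SynMor (m ≫ f) :=
  synMor_comp (synMor_of_smooth m) hf

/-- the largest open on which a morphism is syntomic -/
noncomputable def synLocus {X Y : Scheme.{u}} (f : X ⟶ Y) : X.Opens :=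
  sSup {V | SynMor (V.ι ≫ f)}

theorem le_synLocus {X Y : Scheme.{u}} (f : X ⟶ Y) {V : X.Opens} (h : SynMor (V.ι ≫ f)) : V ≤ synLocus f :=
  le_sSup h

theorem synMor_synLocus {X Y : Scheme.{u}} (f : X ⟶ Y) : SynMor ((synLocus f).ι ≫ f) := by
  refine IsZariskiLocalAtSource.of_iSup_eq_top (P := SynMor.{u})
    (fun V : {V : X.Opens | SynMor (V.ι ≫ f)} => (synLocus f).ι ⁻¹ᵁ V.1) ?_ fun V => ?_
  · refine eq_top_iff.2 fun x _ => ?_
    obtain ⟨V, hV, hx⟩ := TopologicalSpace.Opens.mem_sSup.mp x.2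
    exact TopologicalSpace.Opens.mem_iSup.mpr ⟨⟨V, hV⟩, hx⟩
  · let m : (((synLocus f).ι ⁻¹ᵁ V.1 : (synLocus f : Scheme.{u}).Opens) : Scheme.{u}) ⟶ (V.1 : Scheme.{u}) :=
      IsOpenImmersion.lift V.1.ι (((synLocus f).ι ⁻¹ᵁ V.1).ι ≫ (synLocus f).ι) (by
        rintro _ ⟨z, rfl⟩
        rw [Scheme.Opens.range_ι]
        exact z.2)
    have hm : m ≫ V.1.ι = ((synLocus f).ι ⁻¹ᵁ V.1).ι ≫ (synLocus f).ι := IsOpenImmersion.lift_fac _ _ _
    haveI : IsOpenImmersion m := by
      haveI : IsOpenImmersion (m ≫ V.1.ι) := hm ▸ inferInstance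
      exact IsOpenImmersion.of_comp m V.1.ι
    rw [← Category.assoc, ← hm, Category.assoc]
    exact synMor_comp_smooth m V.2

/-- a flat morphism of finite presentation is syntomic along a syntomic fibre -/
theorem mem_synLocus_of_fiber {X Y : Scheme.{u}} (f : X ⟶ Y) [LocallyOfFinitePresentation f] [Flat f]
    (x : X) (h : SynMor (f.fiberToSpecResidueField (f x))) : x ∈ synLocus f := by
  obtain ⟨R, j, _, b, hb⟩ := Y.exists_Spec_apply_eq (f x)
  obtain ⟨z, hz, -⟩ := Scheme.exists_preimage_of_isPullback (IsPullback.of_hasPullback f j) x b hb.symm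
  obtain ⟨S, i, _, q, hq⟩ := (pullback f j).exists_Spec_apply_eq z
  obtain ⟨φ, hφ⟩ := Spec.map_surjective (i ≫ pullback.snd f j)
  have hsq : (i ≫ pullback.fst f j) ≫ f = Spec.map φ ≫ j := by
    rw [hφ, Category.assoc, Category.assoc, pullback.condition]
  have hqx : (i ≫ pullback.fst f j) q = x := by rw [Scheme.Hom.comp_apply, hq, hz]
  have hfp : φ.hom.FinitePresentation := (HasRingHomProperty.Spec_iff (P := @LocallyOfFinitePresentation)).1 (by
    rw [hφ]; infer_instance)
  have hfl : φ.hom.Flat := (HasRingHomProperty.Spec_iff (P := @Flat)).1 (by rw [hφ]; infer_instance)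
  have hfib : SynMor ((Spec.map φ).fiberToSpecResidueField (Spec.map φ q)) := by
    have h1 : j (Spec.map φ q) = f x := by
      rw [← hqx, ← Scheme.Hom.comp_apply, ← hsq, Scheme.Hom.comp_apply]
    have : SynMor (f.fiberToSpecResidueField (j (Spec.map φ q))) := h1 ▸ h
    have h2 : SynMor ((pullback.snd f j).fiberToSpecResidueField (Spec.map φ q)) :=
      MorphismProperty.of_isPullback
        (isPullback_fiberToSpecResidueField_of_isPullback (IsPullback.of_hasPullback f j) _) this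
    have : SynMor (pullback.snd (pullback.snd f j) ((Spec R).fromSpecResidueField (Spec.map φ q))) := h2
    rw [Scheme.Hom.fiberToSpecResidueField]
    revert this
    generalize Spec.map φ q = y
    intro this
    rw [hφ, ← pullbackRightPullbackFstIso_inv_snd_snd]
    exact synMor_comp (synMor_of_imm _ (@IsOpenImmersion.of_isIso _ _ _ (Iso.isIso_inv _)))
      (synMor_comp (synMor_of_imm _ (MorphismProperty.pullback_snd (P := @IsOpenImmersion) _ _ inferInstance)) this)
  algebraize [φ.hom]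
  obtain ⟨p, hp⟩ : ∃ p, Spec.map φ q = p := ⟨_, rfl⟩
  rw [hp] at hfib
  haveI : p.asIdeal.IsPrime := p.2
  haveI : q.asIdeal.IsPrime := q.2
  haveI : q.asIdeal.LiesOver p.asIdeal := ⟨by rw [← hp]; rfl⟩
  have hlci : Synt.IsLCIOver p.asIdeal.ResidueField (p.asIdeal.Fiber S) := by
    refine isLCIOver_of_isSyntomic (syn_algebraMap.mp ?_)
    rw [← CommRingCat.hom_ofHom (algebraMap p.asIdeal.ResidueField (p.asIdeal.Fiber ↑S)),
      ← HasRingHomProperty.Spec_iff (P := SynMor.{u}), ← MorphismProperty.arrow_mk_iso_iff (P := SynMor.{u})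
      (Spec.fiberToSpecResidueFieldIso R S p)]
    exact hfib
  obtain ⟨Q, hQ⟩ : ∃ Q : PrimeSpectrum (p.asIdeal.Fiber S),
      Q.asIdeal.comap (Algebra.TensorProduct.includeRight.toRingHom) = q.asIdeal :=
    ⟨PrimeSpectrum.preimageEquivFiber R S ⟨p.asIdeal, inferInstance⟩ ⟨⟨q.asIdeal, inferInstance⟩,
      PrimeSpectrum.ext (Ideal.over_def q.asIdeal p.asIdeal).symm⟩,
      congrArg PrimeSpectrum.asIdeal (congrArg Subtype.val ((PrimeSpectrum.preimageEquivFiber R S ⟨p.asIdeal, inferInstance⟩).symm_apply_apply _))⟩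
  haveI : Algebra.FiniteType p.asIdeal.ResidueField (p.asIdeal.Fiber S) := hlci.1
  have hfl' : Module.Flat R (Localization.AtPrime q.asIdeal) := Module.Flat.trans R S _
  obtain ⟨t, ht, hs⟩ := (Groth.Agent.S9169.result R S p.asIdeal q.asIdeal Q.asIdeal hQ).2.mpr
    ⟨1, fun h1 => q.2.ne_top ((Ideal.eq_top_iff_one _).2 h1), Algebra.FinitePresentation.trans R S _, hfl',
      (isLCIOver_iff.mp hlci) Q⟩
  let m : Spec (CommRingCat.of (Localization.Away t)) ⟶ Spec S :=
    Spec.map (CommRingCat.ofHom (algebraMap S (Localization.Away t)))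
  have : IsOpenImmersion m := IsOpenImmersion.of_isLocalization t
  have hs1 : SynMor (m ≫ Spec.map φ) := by
    rw [← Spec.map_comp, HasRingHomProperty.Spec_iff (P := SynMor.{u})]
    exact syn_algebraMap.2 hs
  have hs2 : SynMor ((m ≫ i ≫ pullback.fst f j) ≫ f) := by
    rw [Category.assoc, hsq, ← Category.assoc]
    exact synMor_comp hs1 (synMor_of_smooth j)
  obtain ⟨q', hq'⟩ : q ∈ Set.range m := by
    change q ∈ Set.range (PrimeSpectrum.comap (algebraMap S (Localization.Away t)))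
    rw [PrimeSpectrum.localization_away_comap_range (Localization.Away t) t]
    exact ht
  have h4 : (m ≫ i ≫ pullback.fst f j) q' = x := by rw [Scheme.Hom.comp_apply, hq', hqx]
  let e := m ≫ i ≫ pullback.fst f j
  have hV : SynMor (e.opensRange.ι ≫ f) := by
    refine (MorphismProperty.cancel_left_of_respectsIso SynMor.{u} e.isoOpensRange.hom _).1 ?_
    rwa [← Category.assoc, Scheme.Hom.isoOpensRange_hom_ι]
  exact le_synLocus f hV ⟨q', h4⟩

variable {I : Type u} [SmallCategory I] [IsCofiltered I] (D : I ⥤ Scheme.{u})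
  [∀ {i j} (f : i ⟶ j), IsAffineHom (D.map f)] {i₀ : I}
variable (c : Cone D) (hc : IsLimit c)
variable {X₀ Y₀ : Scheme.{u}} (f₀ : X₀ ⟶ Y₀) (g₀ : Y₀ ⟶ D.obj i₀)
variable {X Y : Scheme.{u}} {f : X ⟶ Y} {g : Y ⟶ c.pt} {qY : Y ⟶ Y₀} {qX : X ⟶ X₀}
variable (hY : IsPullback qY g g₀ (c.π.app i₀)) (hX : IsPullback qX f f₀ qY)

include hc hY hX in
/-- syntomic morphisms descend -/
theorem exists_synMor [CompactSpace X₀] [LocallyOfFinitePresentation f₀] (hf : SynMor f) :
    ∃ j : Over i₀, SynMor (stageMap D g₀ f₀ j) := by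
  haveI : Flat f := flat_of_synMor f hf
  obtain ⟨l, hl⟩ := FlatSpread.exists_flat D c hc f₀ g₀ hY hX
  have hXS := isPullback_comp D g₀ c hY f₀ hX
  let fl := stageMap D g₀ f₀ l
  have : LocallyOfFinitePresentation fl :=
    MorphismProperty.of_isPullback (P := @LocallyOfFinitePresentation) (isPullback_stageMap D g₀ f₀ l) inferInstance
  let U : (stage D (f₀ ≫ g₀) l).Opens := synLocus fl
  have : ∀ {i k : Over i₀} (e : i ⟶ k), IsAffineHom ((tower D (f₀ ≫ g₀)).map e) :=
    fun e => isAffineHom_tower_map D (f₀ ≫ g₀) e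
  have : ∀ k, CompactSpace ((tower D (f₀ ≫ g₀)).obj k) := fun k => compactSpace_stage D (f₀ ≫ g₀) k
  obtain ⟨k, e, he⟩ := exists_map_eq_top (tower D (f₀ ≫ g₀)) (towerCone D (f₀ ≫ g₀) c hXS)
    (isLimitTowerCone D (f₀ ≫ g₀) c hXS hc) U (by
      refine eq_top_iff.2 fun x _ => ?_
      refine mem_synLocus_of_fiber fl (proj D (f₀ ≫ g₀) c hXS l (show X from x)) ?_
      have hP := isPullback_proj_stageMap D g₀ c hY f₀ hX l
      have hfb := isPullback_fiberToSpecResidueField_of_isPullback hP (f (show X from x))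
      have e1 : fl (proj D (f₀ ≫ g₀) c hXS l (show X from x)) = proj D g₀ c hY l (f (show X from x)) := by
        rw [← Scheme.Hom.comp_apply, proj_stageMap D g₀ c hY f₀ hX l, Scheme.Hom.comp_apply]
      rw [e1]
      let r := (proj D g₀ c hY l).residueFieldMap (f (show X from x))
      have hflat : Flat (Spec.map r) := by
        rw [HasRingHomProperty.Spec_iff (P := @Flat)]
        letI := r.hom.toAlgebra
        exact Module.Flat.of_free
      have hsurj : Surjective (Spec.map r) := ⟨fun y => ⟨default, Subsingleton.elim _ _⟩⟩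
      have hthis : SynMor (f.fiberToSpecResidueField (f (show X from x))) :=
        MorphismProperty.pullback_snd _ _ hf
      rw [← isSyntomicMor_iff]
      refine Groth.Agent.S9848.result _ (Spec.map r) ((isSyntomicMor_iff _).2 ?_)
      exact (MorphismProperty.cancel_left_of_respectsIso SynMor.{u} hfb.isoPullback.hom _).1
        ((hfb.isoPullback_hom_snd).symm ▸ hthis))
  refine ⟨k, ?_⟩
  have hk := isPullback_trans_stageMap D g₀ f₀ e
  have hU : SynMor (U.ι ≫ fl) := synMor_synLocus fl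
  have h2 := (isPullback_morphismRestrict (trans D (f₀ ≫ g₀) e) U).paste_vert hk
  have h3 : SynMor ((trans D (f₀ ≫ g₀) e ⁻¹ᵁ U).ι ≫ stageMap D g₀ f₀ k) := MorphismProperty.of_isPullback h2 hU
  have he' : trans D (f₀ ≫ g₀) e ⁻¹ᵁ U = ⊤ := he
  rw [he'] at h3
  haveI : IsIso (⊤ : (stage D (f₀ ≫ g₀) k).Opens).ι := (Scheme.topIso _).isIso_hom
  exact (MorphismProperty.cancel_left_of_respectsIso SynMor.{u} (⊤ : (stage D (f₀ ≫ g₀) k).Opens).ι _).1 h3

end Groth.Agent.SyntLimit
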